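import Mathlib
import Cfsg.Agent.Lib.Lie.PermNine
import Cfsg.Agent.Lib.Lie.ConwayThreeOut.Data

/-!
Definitions of the checks for the outer automorphism group of the third Conway group.
-/

set_option autoImplicit false
set_option maxRecDepth 20000

namespace Cfsg.Agent.Lie.ConwayThreeOut

open Cfsg.Agent.Lie PermNine

/-- The permutations of the first program. -/
def upPerms : List ℕ := slpP 276 basePerms upOps

/-- One of the three elements as a literal. -/
def upLit (j : ℕ) : ℕ := [permX, permN, permY].getD j 0

/-- One of the three elements from the program. -/
def upPerm (j : ℕ) : ℕ := upPerms.getD (upRoots.getD j 0) 0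

/-- A permutation of the program for the chains. -/
def progLit (i : ℕ) : ℕ := (progBlocks.getD (i / 64) []).getD (i % 64) 0

/-- A step of the program for the chains. -/
def stepOK (i : ℕ) : Bool :=
  (Nat.blt (chainOps.getD i (0, 0)).1 (i + 2) && Nat.blt (chainOps.getD i (0, 0)).2 (i + 2)) &&
    (List.range 276).all fun k => Nat.beq (pg (progLit (i + 2)) k)
      (pg (progLit (chainOps.getD i (0, 0)).1) (pg (progLit (chainOps.getD i (0, 0)).2) k))

/-- The representatives of a chain come from the program. -/
def rootsOK (L : List (ℕ × List ℕ)) (R : List (List ℕ)) : Bool :=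
  Nat.beq R.length L.length && (L.zip R).all fun z => Nat.blt z.1.1 276 &&
    decide (z.2.map progLit = z.1.2) && z.2.all fun r => Nat.blt r (2 + chainOps.length)

/-- The programs are well formed. -/
def progCheck : Bool :=
  (CentralTable.slpOrdered 3 upOps && (Nat.beq (progLit 0) permX && Nat.beq (progLit 1) permY)) &&
    (List.range 3).all fun j => Nat.blt (upRoots.getD j 0) (3 + upOps.length)

/-- The value of a word in two maps. -/
def evW (f h : ℕ → ℕ) (w : List Bool) (k : ℕ) : ℕ := w.foldr (fun s j => bif s then h j else f j) k

/-- A power of the element of order 23. -/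
def xPow (i k : ℕ) : ℕ := evW (pg permX) (pg permX) (List.replicate i false) k

/-- Pointwise identities. -/
def pointCheck (k : ℕ) : Bool :=
  (((List.range 3).all fun j => Nat.beq (pg (upPerm j) k) (pg (upLit j) k)) &&
    ((Nat.blt (pg permXi k) 276 && Nat.beq (pg permX (pg permXi k)) k) &&
      (Nat.beq (xPow 23 k) k && Nat.beq (pg permN (pg permX k)) (xPow 2 (pg permN k))))) &&
  (Nat.beq (pg permN (pg permY k)) (pg permY (pg permN k)) &&
    pairRels.all fun r => Nat.beq (evW (pg permX) (pg permY) (List.replicate r.2 r.1).flatten k) k)

/-- An element conjugating the first generator to its square is in the coset of the normalising element. -/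
def leafNorm (us : List ℕ) : Bool :=
  (List.range 23).any fun i => (List.range 276).all fun k => Nat.beq (imgOf us k) (xPow i (pg permN k))

/-- A relation fails for some point. -/
def relFails (a : ℕ) (us : List ℕ) : Bool :=
  pairRels.any fun r => (List.range 276).any fun k =>
    !Nat.beq (evW (pg a) (imgOf us) (List.replicate r.2 r.1).flatten k) k

/-- A centralising element gives only the second generator. -/
def leafCand (us : List ℕ) : Bool :=
  relFails permXi us && (relFails permX us || (List.range 276).all (fun k => Nat.beq (imgOf us k) (pg permY k)))

end Cfsg.Agent.Lie.ConwayThreeOut
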