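import Mathlib
import Cfsg.Agent.Lib.Lie.ConwayThreeOut.Defs

/-!
Kernel checks for the outer automorphism group of the third Conway group.
-/

set_option autoImplicit false
set_option maxRecDepth 100000
set_option maxHeartbeats 0
set_option Elab.async false

namespace Cfsg.Agent.Lie.ConwayThreeOut

open Cfsg.Agent.Lie PermNine

theorem prog_ok : progCheck = true := by decide +kernel

theorem point_ok : (List.range 276).all pointCheck = true := by decide +kernel

theorem step_ok0 : (List.range' 0 251).all stepOK = true := by decide +kernel

theorem step_ok1 : (List.range' 251 251).all stepOK = true := by decide +kernel

theorem step_ok2 : (List.range' 502 251).all stepOK = true := by decide +kernel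

theorem step_ok3 : (List.range' 753 251).all stepOK = true := by decide +kernel

theorem step_ok4 : (List.range' 1004 251).all stepOK = true := by decide +kernel

theorem step_ok5 : (List.range' 1255 251).all stepOK = true := by decide +kernel

theorem step_ok6 : (List.range' 1506 251).all stepOK = true := by decide +kernel

theorem step_ok7 : (List.range' 1757 251).all stepOK = true := by decide +kernel

theorem rootsX_ok : rootsOK chainX chainXRoots = true := by decide +kernel

theorem rootsN_ok : rootsOK chainN chainNRoots = true := by decide +kernel

theorem chainX_ok : chainOK chainX [] = true := by decide +kernel

theorem chainN_ok : chainOK chainN [] = true := by decide +kernel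

theorem sizes_ok : chainSize chainX = 495766656000 ∧ chainSize chainN = 495766656000 := by decide +kernel

end Cfsg.Agent.Lie.ConwayThreeOut
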