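import Cfsg.Prelude.Def_Spor_Conway
import Cfsg.Agent.Lib.Spor.MclConfig
import Cfsg.Agent.Lib.Spor.Co2Co3
import Cfsg.Agent.Lib.Spor.GolayPerm
import Cfsg.Agent.Lib.Spor.HigmanSims
import Cfsg.Agent.Lib.Lie.PermNine
import Cfsg.Agent.Lib.Lie.ConwayThreeOut.Data

/-!
The action of the third Conway group on 276 pairs of vectors, three elements with known permutations, and the identification
with the group of the definitions.
-/

set_option autoImplicit false
set_option maxRecDepth 100000
set_option maxHeartbeats 0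
set_option Elab.async false

namespace Cfsg.Agent.Lie.ConwayThreeOut

open Cfsg Cfsg.Agent.Spor Cfsg.Agent.Lie
open scoped Pointwise

local notation "Zv" => GolayPt → ℤ

/-- The group. -/
abbrev CG : Type := ↥(MulAction.stabilizer ↥Co0 refU)

/-- The reference vector as a list. -/
def uList : List ℤ := rowOf uRef

/-- The complement of a vector. -/
def comp (l : List ℤ) : List ℤ := List.zipWith (fun a b => a - b) uList l

/-- A representative by number. -/
def vecL (i : ℕ) : List ℤ := vecLits.getD i []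

/-- The representatives and their complements. -/
def both : List (List ℤ) := vecLits ++ vecLits.map comp

theorem both_parts : mclCands.take 276 = vecLits ∧
    vecLits.map comp = mclCands.drop 529 ++ (mclCands.drop 276).take 253 := by
  constructor <;> decide +kernel

theorem both_mem (l : List ℤ) : l ∈ both ↔ l ∈ mclCands := by
  obtain ⟨h1, h2⟩ := both_parts
  conv_rhs => rw [← List.take_append_drop 276 mclCands, ← List.take_append_drop 253 (mclCands.drop 276),
    List.drop_drop, show 276 + 253 = 529 from rfl]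
  rw [both, h2, h1]
  simp only [List.mem_append]
  tauto

theorem both_ok : both.all (fun l => mclCands.elem l) = true ∧ mclCands.all (fun l => both.elem l) = true ∧
    vecLits.length = 276 ∧ vecLits.all (fun l => rowOf (vecOf l) == l) = true :=
  ⟨List.all_eq_true.2 fun l hl => List.elem_iff.2 ((both_mem l).1 hl),
    List.all_eq_true.2 fun l hl => List.elem_iff.2 ((both_mem l).2 hl), by decide +kernel, by decide +kernel⟩

/-- A code of a vector. -/
def vecCode (l : List ℤ) : ℕ := l.foldl (fun m a => m * 32 + (a + 16).toNat) 0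

theorem both_codes : (both.map vecCode).Nodup := by decide +kernel

theorem both_nodup : both.Nodup := both_codes.of_map _

theorem cands_iff {y : Zv} : y ∈ halves uRef ↔ rowOf y ∈ mclCands := by
  have hlt : ∀ j : GolayPt, j ≠ none → idx j < 23 := by decide +kernel
  have hne : ∀ j, j < 23 → pt j ≠ none := by decide +kernel
  constructor
  · intro hy
    simp only [mclCands, List.mem_append, List.mem_map]
    have hm : ∀ o ∈ octThrough, mask o ∈ octMasks.filter (fun m => Nat.testBit m 23) := fun o ho =>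
      List.mem_filter.2 ⟨mem_octads.1 ho.1, (testBit_mask_idx (p := none)).2 ho.2⟩
    rcases half_form hy with ⟨j, hj, rfl⟩ | ⟨o, ho, rfl⟩ | ⟨o, ho, rfl⟩ | ⟨j, hj, rfl⟩
    · exact Or.inl (Or.inl (Or.inl ⟨idx j, List.mem_range.2 (hlt j hj), by rw [pt_idx]⟩))
    · exact Or.inl (Or.inl (Or.inr ⟨mask o, hm o ho, by rw [ofMask_mask]⟩))
    · exact Or.inl (Or.inr ⟨mask o, hm o ho, by rw [ofMask_mask]⟩)
    · exact Or.inr ⟨idx j, List.mem_range.2 (hlt j hj), by rw [pt_idx]⟩
  · intro h1
    have hoct : ∀ m ∈ octMasks.filter (fun m => Nat.testBit m 23), ofMask m ∈ octThrough := fun m hm => by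
      obtain ⟨h1, h2⟩ := List.mem_filter.1 hm
      exact ⟨mem_octads.2 (by rwa [mask_ofMask (octMasks_lt h1)]), mem_ofMask.2 h2⟩
    simp only [mclCands, List.mem_append, List.mem_map] at h1
    rcases h1 with ((⟨j, hj, e⟩ | ⟨m, hm, e⟩) | ⟨m, hm, e⟩) | ⟨j, hj, e⟩ <;>
      rw [← vecOf_rowOf y, ← e, vecOf_rowOf]
    · exact half_spec.1 _ (hne j (List.mem_range.1 hj))
    · exact half_spec.2.1 _ (hoct m hm)
    · exact half_spec.2.2.1 _ (hoct m hm)
    · exact half_spec.2.2.2 _ (hne j (List.mem_range.1 hj))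

theorem vecL_mem {i : ℕ} (hi : i < 276) : vecL i ∈ vecLits := by
  rw [vecL, List.getD_eq_getElem _ _ (both_ok.2.2.1.symm ▸ hi)]
  exact List.getElem_mem _

theorem row_vecL {i : ℕ} (hi : i < 276) : rowOf (vecOf (vecL i)) = vecL i :=
  beq_iff_eq.1 (List.all_eq_true.1 both_ok.2.2.2 _ (vecL_mem hi))

theorem vec_mem (i : Fin 276) : vecOf (vecL i) ∈ halves uRef :=
  cands_iff.2 (by rw [row_vecL i.2]; exact List.elem_iff.1 (List.all_eq_true.1 both_ok.1 _
    (List.mem_append_left _ (vecL_mem i.2))))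

/-- A representative in the lattice. -/
def vecPt (i : Fin 276) : ↥leechLattice := ⟨vecOf (vecL i), (vec_mem i).1⟩

/-- A vector lies in the pair of a number. -/
def InPair (y : ↥leechLattice) (j : Fin 276) : Prop := y = vecPt j ∨ y = refU - vecPt j

theorem row_comp {l : List ℤ} (hl : l ∈ vecLits) : rowOf (uRef - vecOf l) = comp l := by
  have hrow : rowOf (vecOf l) = l := beq_iff_eq.1 (List.all_eq_true.1 both_ok.2.2.2 _ hl)
  conv_rhs => rw [← hrow]
  simp only [comp, uList, rowOf, List.zipWith_map, List.zipWith_self]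
  rfl

theorem inPair_unique {y : ↥leechLattice} {i j : Fin 276} (hi : InPair y i) (hj : InPair y j) : i = j := by
  have hlen : vecLits.length = 276 := both_ok.2.2.1
  have pos : ∀ {k : Fin 276}, InPair y k → ∃ (p : ℕ) (hp : p < both.length), both[p] = rowOf (y : Zv) ∧
      p % 276 = k := by
    intro k hk
    rcases hk with rfl | rfl
    · refine ⟨k, by simp [both, hlen]; omega, ?_, Nat.mod_eq_of_lt k.2⟩
      show _ = rowOf (vecOf (vecL k))
      rw [row_vecL k.2, vecL, List.getD_eq_getElem _ _ (hlen.symm ▸ k.2)]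
      simp [both, List.getElem_append_left, hlen]
    · refine ⟨276 + k, by simp [both, hlen]; omega, ?_, by rw [Nat.add_mod_left, Nat.mod_eq_of_lt k.2]⟩
      show _ = rowOf (uRef - vecOf (vecL k))
      rw [row_comp (vecL_mem k.2), vecL, List.getD_eq_getElem _ _ (hlen.symm ▸ k.2)]
      simp [both, List.getElem_append_right, hlen]
  obtain ⟨p, hp, ep, mp⟩ := pos hi
  obtain ⟨q, hq, eq, mq⟩ := pos hj
  have := (both_nodup.getElem_inj_iff (hi := hp) (hj := hq)).1 (ep.trans eq.symm)
  exact Fin.ext (by omega)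

theorem pair_exists {y : ↥leechLattice} (hy : (y : Zv) ∈ halves uRef) : ∃ j, InPair y j := by
  have h := List.all_eq_true.1 both_ok.2.1 _ (cands_iff.1 hy)
  rw [List.elem_iff, both, List.mem_append, List.mem_map] at h
  have key : ∀ l ∈ vecLits, ∃ j : Fin 276, vecOf l = (vecPt j : Zv) := fun l hl => by
    obtain ⟨j, hj, e⟩ := List.getElem_of_mem hl
    refine ⟨⟨j, both_ok.2.2.1 ▸ hj⟩, ?_⟩
    show vecOf l = vecOf (vecL j)
    rw [vecL, List.getD_eq_getElem _ _ hj, e]
  rcases h with h | ⟨l, hl, e⟩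
  · obtain ⟨j, hj⟩ := key _ h
    exact ⟨j, Or.inl (Subtype.ext (by rw [← hj, vecOf_rowOf]))⟩
  · obtain ⟨j, hj⟩ := key _ hl
    refine ⟨j, Or.inr (Subtype.ext ?_)⟩
    show (y : Zv) = uRef - (vecPt j : Zv)
    rw [← hj, ← vecOf_rowOf (y : Zv), ← e, ← row_comp hl, vecOf_rowOf]

theorem image_exists (g : CG) (i : Fin 276) : ∃ j : Fin 276, InPair (g.1 • vecPt i) j := by
  have h1 := co0_dot g.1 refU (vecPt i)
  rw [show g.1 • refU = refU from g.2] at h1
  exact pair_exists ⟨(g.1 • vecPt i).2, (g.1.2.2 _).trans (vec_mem i).2.1, h1.trans (vec_mem i).2.2⟩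

theorem inPair_smul (g : CG) {y : ↥leechLattice} {i j : Fin 276} (hy : InPair y i) (hg : InPair (g.1 • vecPt i) j) :
    InPair (g.1 • y) j := by
  have hu : g.1 • refU = refU := g.2
  have hsub : ∀ z, g.1 • (refU - z) = refU - g.1 • z := fun z => by
    rw [eq_sub_iff_add_eq, ← co0_add, sub_add_cancel, hu]
  rcases hy with rfl | rfl
  · exact hg
  · rw [hsub]
    rcases hg with h | h
    · exact Or.inr (by rw [h])
    · exact Or.inl (by rw [h, sub_sub_cancel])

/-- The image of a point. -/
noncomputable def actPt (g : CG) (i : Fin 276) : Fin 276 := (image_exists g i).choose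

theorem actPt_spec (g : CG) (i : Fin 276) : InPair (g.1 • vecPt i) (actPt g i) := (image_exists g i).choose_spec

theorem actPt_mul (g h : CG) (i : Fin 276) : actPt (g * h) i = actPt g (actPt h i) :=
  inPair_unique (actPt_spec _ i) (by
    rw [Subgroup.coe_mul, mul_smul]
    exact inPair_smul g (actPt_spec h i) (actPt_spec g _))

theorem actPt_one (i : Fin 276) : actPt 1 i = i :=
  inPair_unique (actPt_spec 1 i) (Or.inl (by rw [Subgroup.coe_one, one_smul]))

/-- The permutation representation. -/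
noncomputable def perm276 : CG →* Equiv.Perm (Fin 276) where
  toFun g :=
    { toFun := actPt g
      invFun := actPt g⁻¹
      left_inv := fun i => by rw [← actPt_mul, inv_mul_cancel, actPt_one]
      right_inv := fun i => by rw [← actPt_mul, mul_inv_cancel, actPt_one] }
  map_one' := Equiv.ext actPt_one
  map_mul' g h := Equiv.ext (actPt_mul g h)

theorem card_CG : Nat.card CG = 495766656000 := card_co3 uRef_spec.2

instance finite_CG : Finite CG := Nat.finite_of_card_ne_zero (by rw [card_CG]; norm_num)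

theorem rep_of_image {g : CG} {p : ℕ} (h : ∀ i : Fin 276, ∃ j : Fin 276, (j : ℕ) = PermNine.pg p i ∧
    InPair (g.1 • vecPt i) j) : PermNine.Rep perm276 g p := fun i => by
  obtain ⟨j, hj, e⟩ := h i
  rw [← hj]
  exact congrArg Fin.val (inPair_unique (actPt_spec g i) e)

/-- The conjugated monomial element on one pair. -/
def monoCheck (i : ℕ) : Bool :=
  Nat.blt (PermNine.pg (basePerms.getD 0 0) i) 276 &&
    (rowOf (wordApp (mclMono.getD 0 []) (wordApp mclWord (vecOf (vecL i)))) ==
      rowOf (wordApp mclWord (vecOf (vecL (PermNine.pg (basePerms.getD 0 0) i)))) ||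
    rowOf (wordApp (mclMono.getD 0 []) (wordApp mclWord (vecOf (vecL i)))) ==
      rowOf (wordApp mclWord (vecOf (comp (vecL (PermNine.pg (basePerms.getD 0 0) i))))))

theorem mono_ok0 : (List.range' 0 23).all monoCheck = true := by decide +kernel

theorem mono_ok1 : (List.range' 23 23).all monoCheck = true := by decide +kernel

theorem mono_ok2 : (List.range' 46 23).all monoCheck = true := by decide +kernel

theorem mono_ok3 : (List.range' 69 23).all monoCheck = true := by decide +kernel

theorem mono_ok4 : (List.range' 92 23).all monoCheck = true := by decide +kernel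

theorem mono_ok5 : (List.range' 115 23).all monoCheck = true := by decide +kernel

theorem mono_ok6 : (List.range' 138 23).all monoCheck = true := by decide +kernel

theorem mono_ok7 : (List.range' 161 23).all monoCheck = true := by decide +kernel

theorem mono_ok8 : (List.range' 184 23).all monoCheck = true := by decide +kernel

theorem mono_ok9 : (List.range' 207 23).all monoCheck = true := by decide +kernel

theorem mono_ok10 : (List.range' 230 23).all monoCheck = true := by decide +kernel

theorem mono_ok11 : (List.range' 253 23).all monoCheck = true := by decide +kernel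

theorem mono_ok : (List.range 276).all monoCheck = true := by
  rw [List.all_eq_true]
  intro i hi
  have hi' : i < 276 := List.mem_range.1 hi
  have key : ∀ b, (List.range' b 23).all monoCheck = true → b ≤ i → i < b + 23 → monoCheck i = true := fun b h h1 h2 =>
    List.all_eq_true.1 h i (List.mem_range'_1.2 ⟨h1, h2⟩)
  rcases (by omega : i < 23 ∨ (23 ≤ i ∧ i < 46) ∨ (46 ≤ i ∧ i < 69) ∨ (69 ≤ i ∧ i < 92) ∨ (92 ≤ i ∧ i < 115) ∨ (115 ≤ i ∧ i < 138) ∨ (138 ≤ i ∧ i < 161) ∨ (161 ≤ i ∧ i < 184) ∨ (184 ≤ i ∧ i < 207) ∨ (207 ≤ i ∧ i < 230) ∨ (230 ≤ i ∧ i < 253) ∨ (253 ≤ i ∧ i < 276)) with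
    h | h | h | h | h | h | h | h | h | h | h | h
  exacts [key 0 mono_ok0 (Nat.zero_le i) h, key 23 mono_ok1 h.1 h.2, key 46 mono_ok2 h.1 h.2, key 69 mono_ok3 h.1 h.2, key 92 mono_ok4 h.1 h.2, key 115 mono_ok5 h.1 h.2, key 138 mono_ok6 h.1 h.2, key 161 mono_ok7 h.1 h.2, key 184 mono_ok8 h.1 h.2, key 207 mono_ok9 h.1 h.2, key 230 mono_ok10 h.1 h.2, key 253 mono_ok11 h.1 h.2]

theorem exists_mono_gen : ∃ g : CG, PermNine.Rep perm276 g (basePerms.getD 0 0) := by
  obtain ⟨mok, fok, fu, -, -, ffix, -, -, -, -⟩ := mcl_step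
  rw [List.all_eq_true] at fok mok
  obtain ⟨x, hxi⟩ := exists_xi
  have hfr : ∀ i, i < 3 → mclFrame.getD i [] ∈ mclFrame := fun i hi => by
    rw [List.getD_eq_getElem _ _ (show i < mclFrame.length from hi)]; exact List.getElem_mem _
  have hmn : mclMono.getD 0 [] ∈ mclMono := by
    rw [List.getD_eq_getElem _ _ (show 0 < mclMono.length by decide)]; exact List.getElem_mem _
  obtain ⟨k, -, hk⟩ := word_elem ⊤ (fun _ _ => Subgroup.mem_top _) (Subgroup.mem_top x) hxi mclWord
    (trace_sound _ _ (fok _ (hfr 0 (by norm_num)))).1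
  obtain ⟨m, -, hm⟩ := word_elem ⊤ (fun _ _ => Subgroup.mem_top _) (Subgroup.mem_top x) hxi _ (mok _ hmn)
  have key : ∀ a b : ↥leechLattice,
      wordApp (mclMono.getD 0 []) (wordApp mclWord (a : Zv)) = wordApp mclWord (b : Zv) → (k⁻¹ * m * k) • a = b := by
    intro a b h
    rw [mul_smul, mul_smul, inv_smul_eq_iff]
    refine Subtype.ext ?_
    rw [hm, hk, hk]
    exact h
  have frame : ∀ (i : ℕ) (a : ↥leechLattice), i < 3 → (a : Zv) = vecOf ((mclFrame.getD i []).getLastD []) →
      (k⁻¹ * m * k) • a = a := by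
    intro i a hi ha
    refine key a a ?_
    rw [ha, (trace_sound _ _ (fok _ (hfr i hi))).2]
    exact funext (ffix 0 (by norm_num) i (by simpa using hi))
  have g1 : (k⁻¹ * m * k) • refU = refU := frame 0 refU (by norm_num) (funext fun p => (fu p).symm)
  refine ⟨⟨k⁻¹ * m * k, g1⟩, rep_of_image fun i => ?_⟩
  have hc := List.all_eq_true.1 mono_ok i (List.mem_range.2 i.2)
  simp only [monoCheck, Bool.and_eq_true, Bool.or_eq_true, Nat.blt_eq, beq_iff_eq] at hc
  refine ⟨⟨_, hc.1⟩, rfl, ?_⟩
  rcases hc.2 with h | h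
  · exact Or.inl (key _ _ ((vecOf_rowOf _).symm.trans ((congrArg vecOf h).trans (vecOf_rowOf _))))
  · refine Or.inr (key _ _ ((vecOf_rowOf _).symm.trans ((congrArg vecOf h).trans ((vecOf_rowOf _).trans ?_))))
    show _ = wordApp mclWord (uRef - vecOf (vecL (PermNine.pg (basePerms.getD 0 0) i)))
    rw [← row_comp (vecL_mem hc.1), vecOf_rowOf]

/-- A permutation of the code points with its action on the vectors. -/
def sigmaCheck (l : List ℕ) (p : ℕ) : Bool :=
  (codeBasis.all fun g => Nat.blt g (2 ^ 24) && codeMasks.elem (pmask l g)) &&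
    (Nat.beq (l.getD 23 0) 23 &&
      ((List.range 276).all fun i => Nat.blt (PermNine.pg p i) 276 &&
        ((List.range 24).all (fun k => (vecL (PermNine.pg p i)).getD (l.getD k 0) 0 == (vecL i).getD k 0) ||
          (List.range 24).all fun k => uList.getD (l.getD k 0) 0 - (vecL (PermNine.pg p i)).getD (l.getD k 0) 0 == (vecL i).getD k 0)))

theorem sigma_ok : sigmaCheck sigma1 (basePerms.getD 1 0) = true ∧ sigmaCheck sigma2 (basePerms.getD 2 0) = true := by
  constructor <;> decide +kernel

theorem sigma_bij : Function.Bijective (fun p : GolayPt => pt (sigma1.getD (idx p) 0)) ∧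
    Function.Bijective (fun p : GolayPt => pt (sigma2.getD (idx p) 0)) ∧
    (∀ i, i < 24 → sigma1.getD i 0 < 24 ∧ sigma2.getD i 0 < 24) := by
  refine ⟨?_, ?_, ?_⟩ <;> decide +kernel

theorem exists_sigma_gen {l : List ℕ} {p : ℕ} (h : sigmaCheck l p = true)
    (hb : Function.Bijective (fun q : GolayPt => pt (l.getD (idx q) 0))) (hl : ∀ i, i < 24 → l.getD i 0 < 24) :
    ∃ g : CG, PermNine.Rep perm276 g p := by
  simp only [sigmaCheck, Bool.and_eq_true, List.all_eq_true, Nat.blt_eq, Nat.beq_eq, List.mem_range,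
    beq_iff_eq, List.elem_iff, Bool.or_eq_true] at h
  obtain ⟨hcode, h23, hperm⟩ := h
  obtain ⟨σ, hσ⟩ : ∃ σ : Equiv.Perm GolayPt, ∀ q, σ q = pt (l.getD (idx q) 0) := ⟨Equiv.ofBijective _ hb, fun _ => rfl⟩
  have hrep : Spor.Rep σ l := fun q => by rw [hσ q, idx_pt _ (hl _ (idx_lt q))]
  have hM : σ ∈ M24 := mem_M24.2 fun g hg => by
    rw [hrep.mask_smul, mask_ofMask (hcode g hg).1]
    exact (hcode g hg).2
  have hn : σ none = none := by rw [hσ, show idx none = 23 from rfl, h23]; rfl
  obtain ⟨g, hg⟩ := exists_prm hM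
  have g1 : g • refU = refU := Subtype.ext (by
    rw [hg]; show prm σ uRef = uRef
    rw [uRef, prm_setVec, Finset.smul_finset_singleton]
    show setVec 1 5 {σ none} = _
    rw [hn])
  refine ⟨⟨g, g1⟩, rep_of_image fun i => ⟨⟨_, (hperm i i.2).1⟩, rfl, ?_⟩⟩
  have hidx : ∀ r, idx (σ r) = l.getD (idx r) 0 := fun r => (hrep r).symm
  rcases (hperm i i.2).2 with h | h
  · refine Or.inl (Subtype.ext ?_)
    rw [hg]
    funext q
    obtain ⟨r, rfl⟩ := σ.surjective q
    show prm σ (vecOf (vecL i)) (σ r) = vecOf (vecL (PermNine.pg p i)) (σ r)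
    rw [prm, Equiv.symm_apply_apply]
    show (vecL i).getD (idx r) 0 = (vecL (PermNine.pg p i)).getD (idx (σ r)) 0
    rw [← hrep r, h (idx r) (idx_lt r)]
  · refine Or.inr (Subtype.ext ?_)
    rw [hg]
    funext q
    obtain ⟨r, rfl⟩ := σ.surjective q
    show prm σ (vecOf (vecL i)) (σ r) = uRef (σ r) - vecOf (vecL (PermNine.pg p i)) (σ r)
    rw [prm, Equiv.symm_apply_apply]
    show (vecL i).getD (idx r) 0 = uRef (σ r) - (vecL (PermNine.pg p i)).getD (idx (σ r)) 0
    have e : uList.getD (idx (σ r)) 0 = uRef (σ r) := by rw [uList, rowOf_get _ _ (idx_lt _), pt_idx]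
    rw [← e, ← hrep r, h (idx r) (idx_lt r)]

/-- The three basic elements. -/
theorem exists_base : ∃ γ : List CG, γ.length = 3 ∧
    ∀ j < 3, PermNine.Rep perm276 (γ.getD j 1) (basePerms.getD j 0) := by
  obtain ⟨g, hg⟩ := exists_mono_gen
  obtain ⟨b1, b2, hl⟩ := sigma_bij
  obtain ⟨s, hs⟩ := exists_sigma_gen sigma_ok.1 b1 fun i hi => (hl i hi).1
  obtain ⟨t, ht⟩ := exists_sigma_gen sigma_ok.2 b2 fun i hi => (hl i hi).2
  refine ⟨[g, s, t], rfl, fun j hj => ?_⟩
  interval_cases j
  exacts [hg, hs, ht]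

theorem basePerm_moves : (List.range 276).all (fun k => Nat.beq (PermNine.pg (basePerms.getD 1 0) k) k) = false := by
  decide +kernel

theorem perm276_injective : Function.Injective perm276 := by
  haveI : IsSimpleGroup CG := (co3_spec uRef_spec.2).1
  rw [← MonoidHom.ker_eq_bot_iff]
  refine (perm276.normal_ker.eq_bot_or_eq_top).resolve_right fun htop => ?_
  obtain ⟨γ, -, hγ⟩ := exists_base
  refine Bool.eq_false_iff.1 basePerm_moves (List.all_eq_true.2 fun k hk => ?_)
  rw [Nat.beq_eq]
  have h := hγ 1 (by norm_num) ⟨k, List.mem_range.1 hk⟩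
  rw [show perm276 (γ.getD 1 1) = 1 from MonoidHom.mem_ker.1 (htop ▸ Subgroup.mem_top _)] at h
  exact h.symm

/-- The group of the definitions. -/
theorem co3_iso : Nonempty (↥Cfsg.Spor.Co3 ≃* CG) := by
  have hV : (Cfsg.Spor.leechV : ↥leechLattice) = -refU := Subtype.ext (by
    show Cfsg.Spor.vecV = -uRef
    funext q
    simp only [Cfsg.Spor.vecV, Pi.neg_apply, uRef, setVec, Finset.mem_singleton]
    split_ifs <;> rfl)
  have key : ∀ f : ↥Co0, (f : Equiv.Perm ↥leechLattice) • (Cfsg.Spor.leechV : ↥leechLattice) = Cfsg.Spor.leechV ↔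
      f ∈ MulAction.stabilizer ↥Co0 refU := by
    intro f
    rw [hV]
    show f • (-refU) = -refU ↔ f • refU = refU
    rw [co0_neg, neg_inj]
  refine ⟨{ toFun := fun g => ⟨⟨g.1, g.2.1⟩, (key ⟨g.1, g.2.1⟩).1 g.2.2⟩
            invFun := fun f => ⟨(f.1 : Equiv.Perm ↥leechLattice), ⟨f.1.2, (key f.1).2 f.2⟩⟩
            left_inv := fun _ => rfl
            right_inv := fun _ => rfl
            map_mul' := fun _ _ => rfl }⟩

end Cfsg.Agent.Lie.ConwayThreeOut
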