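import Mathlib
import Cfsg.Agent.Lib.Lie.ConwayThreeOut.Defs

/-!
Searches along the chains for the outer automorphism group of the third Conway group.
-/

set_option autoImplicit false
set_option maxRecDepth 100000
set_option maxHeartbeats 0
set_option Elab.async false

namespace Cfsg.Agent.Lie.ConwayThreeOut

open Cfsg.Agent.Lie PermNine

/-- The square of the first generator. -/
def permX2 : ℕ := pmul 276 permX permX

/-- The later levels of the first chain. -/
def tailX : List (ℕ × List ℕ) := chainX.tail

/-- The later levels of the second chain. -/
def tailN : List (ℕ × List ℕ) := chainN.tail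

theorem srch_parts {pi sg : ℕ} {leaf : List ℕ → Bool} {L : List (ℕ × List ℕ)} {b : ℕ} {ps : List ℕ} (c n : ℕ)
    (hn : ps.length ≤ c * n)
    (h : ∀ i < n, srch pi sg leaf ((b, (ps.drop (c * i)).take c) :: L) [] [] = true) :
    srch pi sg leaf ((b, ps) :: L) [] [] = true := by
  simp only [srch, List.all_eq_true] at h ⊢
  intro u hu
  obtain ⟨j, hj, rfl⟩ := List.getElem_of_mem hu
  have hc : 0 < c := by
    by_contra hc
    rw [show c = 0 by omega, zero_mul] at hn
    omega
  have hi : j / c < n := (Nat.div_lt_iff_lt_mul hc).2 (by rw [mul_comm]; omega)
  refine h (j / c) hi _ (List.mem_iff_getElem.2 ⟨j % c, ?_, ?_⟩)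
  · rw [List.length_take, List.length_drop]
    have := Nat.mod_lt j hc
    have := Nat.div_add_mod j c
    omega
  · rw [List.getElem_take, List.getElem_drop]
    congr 1
    exact Nat.div_add_mod j c

theorem norm_part0 : srch permX permX2 leafNorm ((0, (chainXPerms0.drop (46 * 0)).take 46) :: tailX) [] [] = true := by
  decide +kernel

theorem norm_part1 : srch permX permX2 leafNorm ((0, (chainXPerms0.drop (46 * 1)).take 46) :: tailX) [] [] = true := by
  decide +kernel

theorem norm_part2 : srch permX permX2 leafNorm ((0, (chainXPerms0.drop (46 * 2)).take 46) :: tailX) [] [] = true := by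
  decide +kernel

theorem norm_part3 : srch permX permX2 leafNorm ((0, (chainXPerms0.drop (46 * 3)).take 46) :: tailX) [] [] = true := by
  decide +kernel

theorem norm_part4 : srch permX permX2 leafNorm ((0, (chainXPerms0.drop (46 * 4)).take 46) :: tailX) [] [] = true := by
  decide +kernel

theorem norm_part5 : srch permX permX2 leafNorm ((0, (chainXPerms0.drop (46 * 5)).take 46) :: tailX) [] [] = true := by
  decide +kernel

theorem cand_part0 : srch permN permN leafCand ((0, (chainNPerms0.drop (46 * 0)).take 46) :: tailN) [] [] = true := by
  decide +kernel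

theorem cand_part1 : srch permN permN leafCand ((0, (chainNPerms0.drop (46 * 1)).take 46) :: tailN) [] [] = true := by
  decide +kernel

theorem cand_part2 : srch permN permN leafCand ((0, (chainNPerms0.drop (46 * 2)).take 46) :: tailN) [] [] = true := by
  decide +kernel

theorem cand_part3 : srch permN permN leafCand ((0, (chainNPerms0.drop (46 * 3)).take 46) :: tailN) [] [] = true := by
  decide +kernel

theorem cand_part4 : srch permN permN leafCand ((0, (chainNPerms0.drop (46 * 4)).take 46) :: tailN) [] [] = true := by
  decide +kernel

theorem cand_part5 : srch permN permN leafCand ((0, (chainNPerms0.drop (46 * 5)).take 46) :: tailN) [] [] = true := by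
  decide +kernel

theorem norm_ok : srch permX permX2 leafNorm chainX [] [] = true :=
  srch_parts (b := 0) (ps := chainXPerms0) (L := tailX) 46 6 (by simp [chainXPerms0]) fun i hi => by
    interval_cases i
    exacts [norm_part0, norm_part1, norm_part2, norm_part3, norm_part4, norm_part5]

theorem cand_ok : srch permN permN leafCand chainN [] [] = true :=
  srch_parts (b := 0) (ps := chainNPerms0) (L := tailN) 46 6 (by simp [chainNPerms0]) fun i hi => by
    interval_cases i
    exacts [cand_part0, cand_part1, cand_part2, cand_part3, cand_part4, cand_part5]

end Cfsg.Agent.Lie.ConwayThreeOut
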