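import Mathlib
import Cfsg.Prelude.Def_KGroupFacts
import Cfsg.Agent.Lib.Lie.ConwayThreeOut.Points
import Cfsg.Agent.Lib.Lie.ConwayThreeOut.Checks
import Cfsg.Agent.Lib.Lie.ConwayThreeOut.SearchChecks

/-!
Every automorphism of the third Conway group is inner: an automorphism can be moved to fix an element of order 23 and
an element normalising it, and then only one image of a centralising second generator satisfies the relations.
-/

set_option autoImplicit false
set_option maxRecDepth 100000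
set_option linter.style.haveILetI false

namespace Cfsg.Agent.Lie.ConwayThreeOut

open Cfsg Cfsg.Agent.Lie PermNine

attribute [local irreducible] pg slpP srch chainOK

theorem prog_facts : (CentralTable.slpOrdered 3 upOps = true ∧ (progLit 0 = permX ∧ progLit 1 = permY)) ∧
    ∀ j < 3, upRoots.getD j 0 < 3 + upOps.length := by
  have h := prog_ok
  simp only [progCheck, Bool.and_eq_true, List.all_eq_true, List.mem_range, Nat.blt_eq, Nat.beq_eq] at h
  exact h

theorem point_facts (k : Fin 276) :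
    ((∀ j < 3, pg (upPerm j) k = pg (upLit j) k) ∧
      ((pg permXi k < 276 ∧ pg permX (pg permXi k) = k) ∧
        (xPow 23 k = k ∧ pg permN (pg permX k) = xPow 2 (pg permN k)))) ∧
    (pg permN (pg permY k) = pg permY (pg permN k) ∧
      ∀ r ∈ pairRels, evW (pg permX) (pg permY) (List.replicate r.2 r.1).flatten k = k) := by
  have h := List.all_eq_true.1 point_ok k (List.mem_range.2 k.2)
  simp only [pointCheck, Bool.and_eq_true, List.all_eq_true, List.mem_range, Nat.blt_eq, Nat.beq_eq] at h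
  exact h

/-- The three basic elements. -/
noncomputable def base : List CG := exists_base.choose

theorem base_spec : base.length = 3 ∧ ∀ j < 3, Rep perm276 (base.getD j 1) (basePerms.getD j 0) :=
  exists_base.choose_spec

/-- One of the four elements. -/
noncomputable def el (j : ℕ) : CG := (CentralTable.slpElt base upOps).getD (upRoots.getD j 0) 1

theorem rep_el {j : ℕ} (hj : j < 3) : Rep perm276 (el j) (upLit j) := fun k => by
  rw [← (point_facts k).1.1 j hj]
  refine slp_rep upOps base basePerms ?_ (fun i hi => base_spec.2 i (base_spec.1 ▸ hi)) ?_ _ ?_ k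
  · rw [base_spec.1]; rfl
  · rw [base_spec.1]; exact CentralTable.slpOrdered_spec _ _ prog_facts.1.1
  · rw [base_spec.1]; exact prog_facts.2 j hj

/-- The element of order 23. -/
noncomputable def gx : CG := el 0
/-- The element normalising it. -/
noncomputable def gn : CG := el 1
/-- The second generator. -/
noncomputable def gy : CG := el 2

theorem rep_x : Rep perm276 gx permX := rep_el (j := 0) (by norm_num)
theorem rep_n : Rep perm276 gn permN := rep_el (j := 1) (by norm_num)
theorem rep_y : Rep perm276 gy permY := rep_el (j := 2) (by norm_num)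

theorem perm_ext {g h : CG} (e : ∀ k : Fin 276, (perm276 g k : ℕ) = perm276 h k) : g = h :=
  perm276_injective (Equiv.ext fun k => Fin.ext (e k))

theorem one_apply (k : Fin 276) : (perm276 (1 : CG) k : ℕ) = k := by rw [map_one]; rfl

theorem mul_apply (g h : CG) (k : Fin 276) : perm276 (g * h) k = perm276 g (perm276 h k) := by
  rw [map_mul, Equiv.Perm.mul_apply]

theorem ev_apply {g h : CG} {f f' : ℕ → ℕ} (hg : ∀ k : Fin 276, (perm276 g k : ℕ) = f k)
    (hh : ∀ k : Fin 276, (perm276 h k : ℕ) = f' k) : ∀ (w : List Bool) (k : Fin 276),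
    (perm276 (CentralTable.ev (fun s => bif s then h else g) w) k : ℕ) = evW f f' w k
  | [], k => one_apply k
  | s :: w, k => by
    rw [CentralTable.ev_cons, mul_apply, evW, List.foldr_cons]
    cases s
    · exact (hg _).trans (congrArg f (ev_apply hg hh w k))
    · exact (hh _).trans (congrArg f' (ev_apply hg hh w k))

theorem xPow_apply (i : ℕ) (k : Fin 276) : (perm276 (gx ^ i) k : ℕ) = xPow i k := by
  have e : CentralTable.ev (fun s => bif s then gx else gx) (List.replicate i false) = gx ^ i := by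
    rw [CentralTable.ev, List.map_replicate, List.prod_replicate]
    rfl
  rw [← e, ev_apply rep_x rep_x]
  rfl

theorem x_pow_order : gx ^ 23 = 1 := perm_ext fun k => by
  rw [xPow_apply, (point_facts k).1.2.2.1, one_apply]

theorem x_order : orderOf gx = 23 := by
  haveI : Fact (Nat.Prime 23) := ⟨by norm_num⟩
  refine orderOf_eq_prime x_pow_order fun e => ?_
  have h : (List.range 276).all (fun k => Nat.beq (pg permX k) k) = true := by
    rw [List.all_eq_true]
    intro k hk
    rw [Nat.beq_eq]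
    have h := rep_x ⟨k, List.mem_range.1 hk⟩
    rw [e, one_apply] at h
    exact h.symm
  exact absurd h (by unfold permX; decide +kernel)

theorem rep_xi : Rep perm276 gx⁻¹ permXi := fun k => by
  have h := (point_facts k).1.2.1
  have e : perm276 gx ⟨pg permXi k, h.1⟩ = k := Fin.ext ((rep_x _).trans h.2)
  have e2 : perm276 gx⁻¹ k = ⟨pg permXi k, h.1⟩ := by
    rw [map_inv]
    exact Equiv.Perm.inv_eq_iff_eq.2 e.symm
  rw [e2]

theorem norm_x : gn * gx = gx ^ 2 * gn := perm_ext fun k => by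
  rw [mul_apply, mul_apply, rep_n, rep_x, xPow_apply, rep_n]
  exact (point_facts k).1.2.2.2

theorem norm_pow (m i : ℕ) : gn ^ m * gx ^ i * (gn ^ m)⁻¹ = gx ^ (i * 2 ^ m) := by
  induction m generalizing i with
  | zero => simp
  | succ m ih =>
    rw [pow_succ, mul_inv_rev, show gn ^ m * gn * gx ^ i * (gn⁻¹ * (gn ^ m)⁻¹) =
      gn ^ m * (gn * gx ^ i * gn⁻¹) * (gn ^ m)⁻¹ by group, ← conj_pow, mul_inv_eq_iff_eq_mul.2 norm_x, ← pow_mul, ih]
    congr 1
    ring

theorem n_comm_y : gn * gy = gy * gn := perm_ext fun k => by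
  rw [mul_apply, mul_apply, rep_n, rep_y, rep_y, rep_n]
  exact (point_facts k).2.1

/-! ### the chains -/

theorem step_all (i : ℕ) (hi : i < chainOps.length) : stepOK i = true := by
  have hl : chainOps.length = 2008 := by decide +kernel
  have key : ∀ b, (List.range' b 251).all stepOK = true → b ≤ i → i < b + 251 → stepOK i = true := fun b h h1 h2 =>
    List.all_eq_true.1 h i (List.mem_range'_1.2 ⟨h1, h2⟩)
  rcases (by omega : i < 251 ∨ (251 ≤ i ∧ i < 502) ∨ (502 ≤ i ∧ i < 753) ∨ (753 ≤ i ∧ i < 1004) ∨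
      (1004 ≤ i ∧ i < 1255) ∨ (1255 ≤ i ∧ i < 1506) ∨ (1506 ≤ i ∧ i < 1757) ∨ (1757 ≤ i ∧ i < 2008)) with
    h | h | h | h | h | h | h | h
  exacts [key 0 step_ok0 (Nat.zero_le i) (by omega), key 251 step_ok1 h.1 h.2, key 502 step_ok2 h.1 h.2,
    key 753 step_ok3 h.1 h.2, key 1004 step_ok4 h.1 h.2, key 1255 step_ok5 h.1 h.2, key 1506 step_ok6 h.1 h.2,
    key 1757 step_ok7 h.1 h.2]

/-- The subgroup generated by the two generators. -/
noncomputable def genXY : Subgroup CG := Subgroup.closure {gx, gy}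

theorem prog_mem : ∀ i < 2 + chainOps.length, ∃ u ∈ (genXY : Set CG), Rep perm276 u (progLit i) := by
  intro i
  induction i using Nat.strong_induction_on with
  | _ i ih =>
    intro hi
    match i, ih, hi with
    | 0, _, _ => exact ⟨gx, Subgroup.subset_closure (Set.mem_insert _ _), by rw [prog_facts.1.2.1]; exact rep_x⟩
    | 1, _, _ =>
      exact ⟨gy, Subgroup.subset_closure (Set.mem_insert_of_mem _ rfl), by rw [prog_facts.1.2.2]; exact rep_y⟩
    | j + 2, ih, hi =>
      have h := step_all j (by omega)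
      simp only [stepOK, Bool.and_eq_true, Nat.blt_eq, List.all_eq_true, List.mem_range, Nat.beq_eq] at h
      obtain ⟨⟨ha, hb⟩, he⟩ := h
      obtain ⟨u, hu, ru⟩ := ih _ ha (ha.trans hi)
      obtain ⟨v, hv, rv⟩ := ih _ hb (hb.trans hi)
      exact ⟨u * v, mul_mem hu hv, fun k => by rw [mul_apply, ru, rv]; exact (he k k.2).symm⟩

theorem reps_of_roots {L : List (ℕ × List ℕ)} {R : List (List ℕ)} (h : rootsOK L R = true) :
    Reps (φ := perm276) (genXY : Set CG) L := by
  simp only [rootsOK, Bool.and_eq_true, List.all_eq_true, Nat.beq_eq, Nat.blt_eq, decide_eq_true_eq] at h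
  obtain ⟨hlen, hall⟩ := h
  intro l hl
  obtain ⟨i, hi, rfl⟩ := List.getElem_of_mem hl
  have hm : (L[i], R[i]'(hlen ▸ hi)) ∈ L.zip R :=
    List.mem_iff_getElem.2 ⟨i, by simp [hlen, hi], by simp⟩
  obtain ⟨⟨hb, hmap⟩, hroots⟩ := hall _ hm
  refine ⟨hb, fun p hp => ?_⟩
  rw [← hmap, List.mem_map] at hp
  obtain ⟨r, hr, rfl⟩ := hp
  exact prog_mem r (hroots r hr)

theorem gen_top : genXY = ⊤ := by
  refine top_le_iff.1 fun g _ => ?_
  exact chain_mem perm276_injective chainX_ok (reps_of_roots rootsX_ok) (by rw [sizes_ok.1, card_CG]) g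

theorem search_x {sg : ℕ} {leaf : List ℕ → Bool} (hs : srch permX sg leaf chainX [] [] = true) {g c : CG}
    (hc : Rep perm276 c sg) (e : g * gx = c * g) :
    ∃ us, leaf us = true ∧ ∀ k : Fin 276, (perm276 g k : ℕ) = imgOf us k :=
  srch_sound chainX_ok (reps_of_roots rootsX_ok) (by rw [sizes_ok.1, card_CG]) hs rep_x hc e

theorem search_n {g : CG} (e : g * gn = gn * g) :
    ∃ us, leafCand us = true ∧ ∀ k : Fin 276, (perm276 g k : ℕ) = imgOf us k :=
  srch_sound chainN_ok (reps_of_roots rootsN_ok) (by rw [sizes_ok.2, card_CG]) cand_ok rep_n rep_n e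

theorem norm_cases {g : CG} (e : g * gx = gx ^ 2 * g) : ∃ i, g = gx ^ i * gn := by
  have hc : Rep perm276 (gx ^ 2) permX2 := by
    rw [pow_two]
    exact rep_x.mul rep_x
  obtain ⟨us, hl, he⟩ := search_x norm_ok hc e
  simp only [leafNorm, List.any_eq_true, List.all_eq_true, List.mem_range, Nat.beq_eq] at hl
  obtain ⟨i, -, hi⟩ := hl
  refine ⟨i, perm_ext fun k => ?_⟩
  rw [he, hi k k.2, mul_apply, xPow_apply, rep_n]

/-! ### automorphisms -/

theorem rels_hold {r : List Bool × ℕ} (hr : r ∈ pairRels) :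
    CentralTable.ev (fun s => bif s then gy else gx) (List.replicate r.2 r.1).flatten = 1 :=
  perm_ext fun k => by rw [ev_apply rep_x rep_y, (point_facts k).2.2 r hr, one_apply]

theorem cand_cases (α : MulAut CG) (hn : α gn = gn) :
    (α gx = gx → α gy = gy) ∧ α gx ≠ gx⁻¹ := by
  obtain ⟨us, hl, he⟩ := search_n (g := α gy) (by rw [← hn, ← map_mul, ← map_mul, n_comm_y])
  simp only [leafCand, Bool.and_eq_true, Bool.or_eq_true, List.all_eq_true, List.mem_range, Nat.beq_eq] at hl
  have fail : ∀ (z : CG) (p : ℕ), Rep perm276 z p → α gx = z → relFails p us = true → False := by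
    intro z p hz e hf
    simp only [relFails, List.any_eq_true, List.mem_range, Bool.not_eq_true', ← Bool.not_eq_true, Nat.beq_eq] at hf
    obtain ⟨r, hr, k, hk, hne⟩ := hf
    refine hne ?_
    have e1 := congrArg α.toMonoidHom (rels_hold hr)
    rw [map_one, CentralTable.map_ev] at e1
    have e2 : (fun s => α.toMonoidHom (bif s then gy else gx)) = fun s => bif s then α gy else z := by
      funext s
      cases s
      exacts [e, rfl]
    rw [e2] at e1
    have h := ev_apply hz he (List.replicate r.2 r.1).flatten ⟨k, hk⟩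
    rw [e1, one_apply] at h
    exact h.symm
  refine ⟨fun hx => ?_, fun hx => fail _ _ rep_xi hx hl.1⟩
  have h := hl.2.resolve_left (fun hf => fail _ _ rep_x hx hf)
  exact perm_ext fun k => by rw [he, h k k.2, rep_y]

/-- Subgroups of order 23 are conjugate. -/
theorem conj_order {a : CG} (ha : orderOf a = 23) : ∃ (g : CG) (i : ℕ), i < 23 ∧ g * a * g⁻¹ = gx ^ i := by
  haveI : Fact (Nat.Prime 23) := ⟨by norm_num⟩
  have key : ∀ c : CG, orderOf c = 23 → ∃ S : Sylow 23 CG, (S : Subgroup CG) = Subgroup.zpowers c := by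
    intro c hc
    have hcard : Nat.card (Subgroup.zpowers c) = 23 ^ 1 := by rw [Nat.card_zpowers, hc, pow_one]
    obtain ⟨S, hS⟩ := (IsPGroup.of_card hcard).exists_le_sylow
    obtain ⟨m, hm⟩ := S.isPGroup'.exists_card_eq
    refine ⟨S, (Subgroup.eq_of_le_of_card_ge hS ?_).symm⟩
    rw [hcard, hm]
    refine Nat.pow_le_pow_right (by norm_num) ?_
    by_contra hgt
    exact absurd ((pow_dvd_pow 23 (by omega : 2 ≤ m)).trans (hm ▸ Subgroup.card_subgroup_dvd_card _))
      (by rw [card_CG]; norm_num)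
  obtain ⟨SA, hA⟩ := key a ha
  obtain ⟨SB, hB⟩ := key gx x_order
  obtain ⟨g, hg⟩ := MulAction.exists_smul_eq CG SA SB
  classical
  have hm : g * a * g⁻¹ ∈ Subgroup.zpowers gx := by
    rw [← hB, ← hg, Sylow.coe_subgroup_smul, Subgroup.mem_pointwise_smul_iff_inv_smul_mem, hA]
    show (MulAut.conj g)⁻¹ (g * a * g⁻¹) ∈ _
    rw [MulAut.conj_inv_apply, show g⁻¹ * (g * a * g⁻¹) * g = a by group]
    exact Subgroup.mem_zpowers a
  obtain ⟨i, hi, e⟩ := (mem_zpowers_iff_mem_range_orderOf.1 hm) |> Finset.mem_image.1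
  rw [x_order, Finset.mem_range] at hi
  exact ⟨g, i, hi, e.symm⟩

theorem pow_cases : ∀ i < 23, i ≠ 0 → ∃ m : Fin 11, i * 2 ^ (m : ℕ) % 23 = 1 ∨ i * 2 ^ (m : ℕ) % 23 = 22 := by
  decide

theorem aut_norm (α : MulAut CG) : ∃ g : CG, (MulAut.conj g * α) gn = gn ∧
    ((MulAut.conj g * α) gx = gx ∨ (MulAut.conj g * α) gx = gx⁻¹) := by
  obtain ⟨h, i, hi, e⟩ := conj_order (a := α gx) (by rw [MulEquiv.orderOf_eq, x_order])
  have hi0 : i ≠ 0 := by
    rintro rfl
    rw [pow_zero, conj_eq_one_iff] at e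
    have := x_order
    rw [← MulEquiv.orderOf_eq α, e, orderOf_one] at this
    omega
  obtain ⟨m, hm⟩ := pow_cases i hi hi0
  obtain ⟨β, hβ⟩ : ∃ β : MulAut CG, β = MulAut.conj (gn ^ (m : ℕ) * h) * α := ⟨_, rfl⟩
  have hb : β gx = gx ∨ β gx = gx⁻¹ := by
    have e' : β gx = gx ^ (i * 2 ^ (m : ℕ)) := by
      rw [hβ, MulAut.mul_apply, MulAut.conj_apply, show gn ^ (m : ℕ) * h * α gx * (gn ^ (m : ℕ) * h)⁻¹ =
        gn ^ (m : ℕ) * (h * α gx * h⁻¹) * (gn ^ (m : ℕ))⁻¹ by group, e, norm_pow]
    rw [e', pow_eq_pow_mod _ x_pow_order]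
    rcases hm with hm | hm <;> rw [hm]
    · exact Or.inl (pow_one _)
    · refine Or.inr (eq_inv_of_mul_eq_one_left ?_)
      rw [← pow_succ]
      exact x_pow_order
  have hnorm : β gn * gx = gx ^ 2 * β gn := by
    have e2 := congrArg β norm_x
    rw [map_mul, map_mul, map_pow] at e2
    rcases hb with hb | hb
    · rwa [hb] at e2
    · rw [hb] at e2
      have e3 : β gn * gx⁻¹ * (β gn)⁻¹ = gx⁻¹ ^ 2 := mul_inv_eq_iff_eq_mul.2 e2
      have e4 := congrArg (·⁻¹) e3
      simp only [mul_inv_rev, inv_inv, inv_pow] at e4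
      rw [← mul_assoc] at e4
      exact mul_inv_eq_iff_eq_mul.1 e4
  obtain ⟨j, hj⟩ := norm_cases hnorm
  refine ⟨gx ^ j * (gn ^ (m : ℕ) * h), ?_⟩
  rw [map_mul, mul_assoc, ← hβ, MulAut.mul_apply, MulAut.mul_apply, MulAut.conj_apply, MulAut.conj_apply, hj]
  refine ⟨?_, ?_⟩
  · have hn : gn * gx ^ j * gn⁻¹ = gx ^ (j * 2) := by
      have := norm_pow 1 j
      rwa [pow_one, pow_one] at this
    have hinv : gn * (gx ^ j)⁻¹ = (gx ^ (j * 2))⁻¹ * gn := by
      rw [← hn]; group
    rw [mul_assoc, mul_assoc, hinv, ← mul_assoc, ← mul_assoc, ← pow_add, ← mul_two, mul_inv_cancel, one_mul]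
  · rcases hb with hb | hb <;> rw [hb]
    · exact Or.inl (by group)
    · exact Or.inr (by group)

theorem aut_ext {α β : MulAut CG} (h1 : α gx = β gx) (h2 : α gy = β gy) : α = β := by
  have : α.toMonoidHom = β.toMonoidHom := MonoidHom.eq_of_eqOn_dense gen_top (by
    rintro _ (rfl | rfl)
    exacts [h1, h2])
  exact MulEquiv.ext fun x => DFunLike.congr_fun this x

theorem card_out_CG : Nat.card (Cfsg.Out CG) = 1 := by
  have htop : Cfsg.Inn CG = ⊤ := top_le_iff.1 fun α _ => by
    obtain ⟨g, hn, hgx⟩ := aut_norm α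
    obtain ⟨hc, hne'⟩ := cand_cases _ hn
    have hgx' := hgx.resolve_right hne'
    rw [eq_inv_of_mul_eq_one_right (aut_ext (β := 1) hgx' (hc hgx'))]
    exact inv_mem ⟨g, rfl⟩
  show Nat.card (MulAut CG ⧸ Cfsg.Inn CG) = 1
  rw [← Subgroup.index_eq_card, htop, Subgroup.index_top]

/-- Every automorphism of the third Conway group is inner. -/
theorem card_out : Nat.card (Cfsg.Out ↥Cfsg.Spor.Co3) = 1 := by
  obtain ⟨e⟩ := co3_iso
  rw [← card_out_CG]
  refine Nat.card_congr (QuotientGroup.congr _ _ (MulAut.congr e) ?_).toEquiv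
  refine Subgroup.ext fun β => ⟨?_, ?_⟩
  · rintro ⟨_, ⟨g, rfl⟩, rfl⟩
    exact ⟨e g, MulEquiv.ext fun x => by simp [MulAut.congr]⟩
  · rintro ⟨g, rfl⟩
    exact ⟨_, ⟨e.symm g, rfl⟩, MulEquiv.ext fun x => by simp [MulAut.congr]⟩

end Cfsg.Agent.Lie.ConwayThreeOut
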